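import Cfsg.Agent.Lib.Helper6.TC11
import Cfsg.Agent.Lib.Helper6.TCD.Fi22a.Par
set_option autoImplicit false
set_option maxRecDepth 1000000
set_option Elab.async false
open Cfsg.Agent.Lib.Helper6.TC
namespace Cfsg.Agent.Lib.Helper6.TCD.Fi22a
theorem chkR0_0 : chkFix R0 0 3510 = true := by decide +kernel
theorem chkR1_0 : chkFix R1 0 3510 = true := by decide +kernel
theorem chkR2_0 : chkFix R2 0 3510 = true := by decide +kernel
theorem chkR3_0 : chkFix R3 0 3510 = true := by decide +kernel
theorem chkR4_0 : chkFix R4 0 3510 = true := by decide +kernel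
theorem chkR5_0 : chkFix R5 0 3510 = true := by decide +kernel
theorem chkR6_0 : chkFix R6 0 3510 = true := by decide +kernel
theorem chkR7_0 : chkFix R7 0 3510 = true := by decide +kernel
theorem chkR8_0 : chkFix R8 0 3510 = true := by decide +kernel
theorem chkR9_0 : chkFix R9 0 3510 = true := by decide +kernel
theorem chkR10_0 : chkFix R10 0 3510 = true := by decide +kernel
theorem chkR11_0 : chkFix R11 0 3510 = true := by decide +kernel
theorem chkR12_0 : chkFix R12 0 3510 = true := by decide +kernel
theorem chkR13_0 : chkFix R13 0 3510 = true := by decide +kernel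
theorem chkR14_0 : chkFix R14 0 3510 = true := by decide +kernel
theorem chkR15_0 : chkFix R15 0 3510 = true := by decide +kernel
theorem chkR16_0 : chkFix R16 0 3510 = true := by decide +kernel
theorem chkR17_0 : chkFix R17 0 3510 = true := by decide +kernel
theorem chkR18_0 : chkFix R18 0 3510 = true := by decide +kernel
theorem chkR19_0 : chkFix R19 0 3510 = true := by decide +kernel
theorem chkR20_0 : chkFix R20 0 3510 = true := by decide +kernel
end Cfsg.Agent.Lib.Helper6.TCD.Fi22a
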