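import Cfsg.Agent.Lib.Helper6.TC11
import Cfsg.Agent.Lib.Helper6.TCD.Fi22a.Par
set_option autoImplicit false
set_option maxRecDepth 1000000
set_option Elab.async false
open Cfsg.Agent.Lib.Helper6.TC
namespace Cfsg.Agent.Lib.Helper6.TCD.Fi22a
theorem chkR21_0 : chkFix R21 0 3510 = true := by decide +kernel
theorem chkR22_0 : chkFix R22 0 3510 = true := by decide +kernel
theorem chkR23_0 : chkFix R23 0 3510 = true := by decide +kernel
theorem chkR24_0 : chkFix R24 0 3510 = true := by decide +kernel
theorem chkR25_0 : chkFix R25 0 3510 = true := by decide +kernel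
theorem chkR26_0 : chkFix R26 0 3510 = true := by decide +kernel
theorem chkR27_0 : chkFix R27 0 3510 = true := by decide +kernel
theorem chkR28_0 : chkFix R28 0 3510 = true := by decide +kernel
theorem chkR29_0 : chkFix R29 0 3510 = true := by decide +kernel
theorem chkR30_0 : chkFix R30 0 3510 = true := by decide +kernel
theorem chkR31_0 : chkFix R31 0 3510 = true := by decide +kernel
theorem chkR32_0 : chkFix R32 0 3510 = true := by decide +kernel
theorem chkR33_0 : chkFix R33 0 3510 = true := by decide +kernel
theorem chkR34_0 : chkFix R34 0 3510 = true := by decide +kernel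
theorem chkR35_0 : chkFix R35 0 3510 = true := by decide +kernel
end Cfsg.Agent.Lib.Helper6.TCD.Fi22a
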