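import Cfsg.Agent.Lib.Helper6.TC11
import Cfsg.Agent.Lib.Helper6.TCD.Fi22a.Par
set_option autoImplicit false
set_option maxRecDepth 1000000
set_option Elab.async false
open Cfsg.Agent.Lib.Helper6.TC
namespace Cfsg.Agent.Lib.Helper6.TCD.Fi22a
theorem chkR36_0 : chkFix R36 0 3510 = true := by decide +kernel
theorem chkR37_0 : chkFix R37 0 3510 = true := by decide +kernel
theorem chkR38_0 : chkFix R38 0 3510 = true := by decide +kernel
theorem chkR39_0 : chkFix R39 0 3510 = true := by decide +kernel
theorem chkR40_0 : chkFix R40 0 3510 = true := by decide +kernel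
theorem chkR41_0 : chkFix R41 0 3510 = true := by decide +kernel
theorem chkR42_0 : chkFix R42 0 3510 = true := by decide +kernel
theorem chkR43_0 : chkFix R43 0 3510 = true := by decide +kernel
theorem chkR44_0 : chkFix R44 0 3510 = true := by decide +kernel
end Cfsg.Agent.Lib.Helper6.TCD.Fi22a
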