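import Cfsg.Agent.Lib.Helper6.TCD.Fi22a.CS0
import Cfsg.Agent.Lib.Helper6.TCD.Fi22a.CS1
import Cfsg.Agent.Lib.Helper6.TCD.Fi22a.CS2
import Cfsg.Agent.Lib.Helper6.TCD.Fi22a.CS3
import Cfsg.Agent.Lib.Helper6.TCD.Fi22a.CN0
import Cfsg.Agent.Lib.Helper6.TCD.Fi22a.CC
import Cfsg.Agent.Lib.Helper6.TCD.Fi22a.CPa0
import Cfsg.Agent.Lib.Helper6.TCD.Fi22a.CPb
import Cfsg.Agent.Lib.Helper6.TCD.Fi22a.CPc0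
import Cfsg.Agent.Lib.Helper6.TCD.Fi22a.CR0
import Cfsg.Agent.Lib.Helper6.TCD.Fi22a.CR1
import Cfsg.Agent.Lib.Helper6.TCD.Fi22a.CR2
import Cfsg.Agent.Lib.Helper6.TCD.Fi22a.CR3
import Cfsg.Agent.Lib.Helper6.TCD.Fi22a.CR4
import Cfsg.Agent.Lib.Helper6.TCD.Fi22a.CR5
import Cfsg.Agent.Lib.Helper6.TCD.Fi22a.CR6
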