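import Cfsg.Agent.Lib.Helper6.TC11
import Cfsg.Agent.Lib.Helper6.TCD.Fi22a.Par
set_option autoImplicit false
set_option maxRecDepth 1000000
open Cfsg.Agent.Lib.Helper6.TC
namespace Cfsg.Agent.Lib.Helper6.TCD.Fi22a
theorem chkP0 : chkCol P0 P0 3510 = true := by decide +kernel
theorem chkP1 : chkCol P1 P1 3510 = true := by decide +kernel
theorem chkP2 : chkCol P2 P2 3510 = true := by decide +kernel
theorem chkP3 : chkCol P3 P3 3510 = true := by decide +kernel
theorem chkP4 : chkCol P4 P4 3510 = true := by decide +kernel
theorem chkP5 : chkCol P5 P5 3510 = true := by decide +kernel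
theorem chkP6 : chkCol P6 P6 3510 = true := by decide +kernel
theorem chkP7 : chkCol P7 P7 3510 = true := by decide +kernel
theorem chkP8 : chkCol P8 P8 3510 = true := by decide +kernel
theorem chkT : chkTree px GT 9 3510 = true := by decide +kernel
theorem chkH0 : Nat.beq (H0 0) 0 = true := by decide +kernel
theorem chkLab0 : chkLab lab H0 3510 = true := by decide +kernel
theorem chkH1 : Nat.beq (H1 0) 0 = true := by decide +kernel
theorem chkLab1 : chkLab lab H1 3510 = true := by decide +kernel
theorem chkH2 : Nat.beq (H2 0) 0 = true := by decide +kernel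
theorem chkLab2 : chkLab lab H2 3510 = true := by decide +kernel
theorem chkH3 : Nat.beq (H3 0) 0 = true := by decide +kernel
theorem chkLab3 : chkLab lab H3 3510 = true := by decide +kernel
theorem chkH4 : Nat.beq (H4 0) 0 = true := by decide +kernel
theorem chkLab4 : chkLab lab H4 3510 = true := by decide +kernel
theorem chkH5 : Nat.beq (H5 0) 0 = true := by decide +kernel
theorem chkLab5 : chkLab lab H5 3510 = true := by decide +kernel
theorem chkH6 : Nat.beq (H6 0) 0 = true := by decide +kernel
theorem chkLab6 : chkLab lab H6 3510 = true := by decide +kernel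
theorem chkH7 : Nat.beq (H7 0) 0 = true := by decide +kernel
theorem chkLab7 : chkLab lab H7 3510 = true := by decide +kernel
theorem chkH8 : Nat.beq (H8 0) 0 = true := by decide +kernel
theorem chkLab8 : chkLab lab H8 3510 = true := by decide +kernel
theorem chkRk : chkRank isRoot rnk mv 3510 = true := by decide +kernel
theorem chkCnt0 : cntLab lab 0 3510 = 1 := by decide +kernel
theorem chkCnt1 : cntLab lab 1 3510 = 2816 := by decide +kernel
theorem chkCnt2 : cntLab lab 2 3510 = 693 := by decide +kernel
end Cfsg.Agent.Lib.Helper6.TCD.Fi22a
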